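import Cfsg.Agent.H63.TwoReg.TwoT
import Cfsg.Agent.S4037

/-!
With two relevant primes, every prime other than `p` is full in the centralisers.
-/

set_option autoImplicit false
set_option linter.unusedSectionVars false
set_option linter.style.haveILetI false

namespace Cfsg.Agent.H63.TwoReg

open Subgroup

variable {G : Type*} [Group G] [Finite G] {p c : ℕ}

theorem orderOf_conj (g x : G) : orderOf (g * x * g⁻¹) = orderOf x :=
  MulEquiv.orderOf_eq (MulAut.conj g) x

variable (H : Hyp p c G)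
include H

/-- A prime outside `T` has its Sylow subgroup central in some centraliser. -/
theorem sylow_in_cent {x : G} (hx : W p x) {r : ℕ} [Fact r.Prime] (hr : InPi p r G)
    (hrT : ¬ InT p c r G) :
    ∃ R : Sylow r G, (R : Subgroup G) ≤ centralizer ({x} : Set G) ∧
      (∀ g ∈ centralizer ({x} : Set G), SPow r g → g ∈ (R : Subgroup G)) ∧
      ∀ u ∈ (R : Subgroup G), u ∈ centralizer ((centralizer ({x} : Set G) : Subgroup G) : Set G) := by
  obtain ⟨U, hUC, -, hUcard, hUmem, hUcen⟩ := exists_sylow_cent H hx hr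
  rw [full_of_not_inT H hr.1 hr.2.1 hrT] at hUcard
  exact ⟨Sylow.ofCard U hUcard, hUC, hUmem, hUcen⟩

/-- Subgroups of prime-power order for a prime outside `T` are commutative. -/
theorem comm_of_not_inT {r : ℕ} [Fact r.Prime] (hr : InPi p r G) (hrT : ¬ InT p c r G)
    {T : Subgroup G} (hT : IsPGroup r T) {a b : G} (ha : a ∈ T) (hb : b ∈ T) : Commute a b := by
  obtain ⟨x, hx⟩ := exists_w H
  obtain ⟨R, hRC, -, hRcen⟩ := sylow_in_cent H hx hr hrT
  obtain ⟨S, hS⟩ := hT.exists_le_sylow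
  obtain ⟨m, hm⟩ := MulAction.exists_smul_eq G S R
  have hmem : ∀ a ∈ T, m * a * m⁻¹ ∈ (R : Subgroup G) := fun a ha => by
    rw [← hm, Sylow.coe_subgroup_smul]
    exact ⟨a, hS ha, rfl⟩
  have h := mem_centralizer_iff.mp (hRcen _ (hmem a ha)) (m * b * m⁻¹) (hRC (hmem b hb))
  calc a * b = m⁻¹ * ((m * a * m⁻¹) * (m * b * m⁻¹)) * m := by group
    _ = m⁻¹ * ((m * b * m⁻¹) * (m * a * m⁻¹)) * m := by rw [h]
    _ = b * a := by group

/-- No prime is in `T`. -/
theorem not_inT {q : ℕ} (hq : InT p c q G) : False := by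
  have hnT : ∀ s, s ≠ q → ¬ InT p c s G := fun s hs h => hs (inT_unique H h hq)
  haveI : Fact q.Prime := ⟨hq.1.1⟩
  haveI : Fact p.Prime := ⟨H.prime⟩
  -- a non-central element in the second centre of a Sylow `q`-subgroup
  obtain ⟨u, hu, huZ⟩ := hq.1.2.2
  obtain ⟨P, hP⟩ := (isPGroup_zpowers hu).exists_le_sylow
  set π := QuotientGroup.mk' (center G) with hπ
  have hne : (⊤ : Subgroup ((P : Subgroup G).map π)) ≠ ⊥ := by
    intro h
    have h1 : (P : Subgroup G).map π = ⊥ := by
      rw [eq_bot_iff]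
      intro y hy
      have := (eq_bot_iff.mp h) (mem_top (⟨y, hy⟩ : (P : Subgroup G).map π))
      exact congrArg Subtype.val (mem_bot.mp this)
    rw [Subgroup.map_eq_bot_iff, QuotientGroup.ker_mk'] at h1
    exact huZ (h1 (hP (mem_zpowers u)))
  have h2 := Cfsg.Agent.H24.inf_center_ne_bot (P.2.map π) hne
  obtain ⟨⟨_, x, hxP, rfl⟩, ⟨-, hxc⟩, hx1⟩ := (bot_or_exists_ne_one _).resolve_left h2
  have hxZ : x ∉ center G := fun h =>
    hx1 (Subtype.ext ((QuotientGroup.eq_one_iff x).mpr h))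
  have hxq : SPow q x := spow_mem_pgroup P.2 hxP
  have hxW : W p x := w_of_spow H.prime hq.1.1 hq.1.2.1 hxq hxZ
  -- its class modulo the centre has `p`-power size
  set S := (centralizer ({π x} : Set (G ⧸ center G))).comap π with hS
  have hSC : centralizer ({x} : Set G) ≤ S := fun a ha => by
    rw [hS, mem_comap, mem_cent_iff]; exact (mem_cent_iff.mp ha).map π
  have hSP : (P : Subgroup G) ≤ S := fun a ha => by
    rw [hS, mem_comap, mem_cent_iff]
    exact congrArg Subtype.val (mem_center_iff.mp hxc ⟨π a, mem_map_of_mem π ha⟩)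
  have hSi : (centralizer ({π x} : Set (G ⧸ center G))).index = S.index :=
    (index_comap_of_surjective _ (QuotientGroup.mk'_surjective _)).symm
  have hpp : ∀ {s : ℕ}, s.Prime → s ∣ S.index → s = p := by
    intro s hs hsd
    by_contra hsp
    have hd : s ^ ((Nat.card G).factorization s + 1) ∣ Nat.card G := by
      refine dvd_trans ?_ (dvd_of_eq S.card_mul_index)
      rw [pow_succ]
      refine mul_dvd_mul ?_ hsd
      by_cases hsq : s = q
      · subst hsq
        rw [← P.card_eq_multiplicity]; exact card_dvd_of_le hSP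
      · rw [← full_of_not_inT H hs hsp (hnT s hsq)]
        exact (Nat.ordProj_dvd c s).trans (by rw [← H.card x hxW]; exact card_dvd_of_le hSC)
    rw [hs.pow_dvd_iff_le_factorization Nat.card_pos.ne'] at hd
    omega
  have hind := Nat.eq_prime_pow_of_unique_prime_dvd (FiniteIndex.index_ne_zero (H := S)) hpp
  have hK : Group.IsSolvable ↥(normalClosure ({π x} : Set (G ⧸ center G))) := by
    refine Cfsg.Agent.S4037.result (π x) H.prime S.index.primeFactorsList.length ?_
    rw [← hind, ← hSi, Cfsg.Agent.H25.index_centralizer_eq_card_class, ← Nat.card_coe_set_eq]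
    exact Nat.card_congr (Equiv.subtypeEquivRight fun y => by
      rw [ConjClasses.mem_carrier_iff_mk_eq, ConjClasses.mk_eq_mk_iff_isConj, isConj_comm])
  -- pass to the quotient by the preimage of `O_p(G/Z(G))`
  haveI := Cfsg.Agent.H19.pCore_normal p (G ⧸ center G)
  set L := (Cfsg.pCore p (G ⧸ center G)).comap π with hL
  set φ := QuotientGroup.mk' L with hφ
  have hZL : center G ≤ L := fun a ha => by
    rw [hL, mem_comap, show π a = 1 from (QuotientGroup.eq_one_iff a).mpr ha]; exact one_mem _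
  have hLc : ∀ a ∈ L, ∀ s, s.Prime → s ≠ p → SPow s a → a ∈ center G := by
    intro a ha s hs hsp hsa
    have h1 : SPow p (π a) := spow_mem_pgroup (Cfsg.Agent.H19.pCore_isPGroup p) ha
    have h2 : orderOf (π a) = 1 := by
      obtain ⟨i, hi⟩ := hsa
      obtain ⟨j, hj⟩ := h1
      refine Nat.eq_one_of_dvd_coprimes (((Nat.coprime_primes hs H.prime).mpr hsp).pow i j) ?_ ?_
      · rw [← hi]; exact orderOf_map_dvd π a
      · rw [← hj]
    exact (QuotientGroup.eq_one_iff a).mp (orderOf_eq_one_iff.mp h2)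
  set ψ : G ⧸ center G →* G ⧸ L := QuotientGroup.map (center G) L (MonoidHom.id G) hZL with hψ
  have hψπ : ∀ a, ψ (π a) = φ a := fun a => rfl
  have hψs : Function.Surjective ψ := fun b => by
    obtain ⟨a, rfl⟩ := QuotientGroup.mk'_surjective L b
    exact ⟨π a, rfl⟩
  set K := (normalClosure ({π x} : Set (G ⧸ center G))).map ψ with hKdef
  haveI : K.Normal := normalClosure_normal.map ψ hψs
  haveI := hK
  have hKs : Group.IsSolvable K :=
    Group.isSolvable_of_surjective (ψ.subgroupMap_surjective _)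
  have hK0 : K ≠ ⊥ := by
    intro h
    have h1 : φ x ∈ K := hψπ x ▸ mem_map_of_mem ψ (subset_normalClosure (Set.mem_singleton _))
    rw [h, mem_bot] at h1
    exact hxZ (hLc x ((QuotientGroup.eq_one_iff x).mp h1) q hq.1.1 hq.1.2.1 hxq)
  obtain ⟨A, s, hA, -, hA0, hAc, hsP, hAp, -⟩ :=
    Cfsg.Agent.H19.exists_normal_elementary_le K hKs hK0
  haveI : Fact s.Prime := ⟨hsP⟩
  have hsp : s ≠ p := by
    rintro rfl
    have h1 : IsPGroup s (A.comap ψ) := by
      refine hAp.comap_of_ker_isPGroup ψ ?_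
      refine (Cfsg.Agent.H19.pCore_isPGroup s).to_le ?_
      intro b hb
      obtain ⟨a, rfl⟩ := QuotientGroup.mk'_surjective (center G) b
      rw [MonoidHom.mem_ker, hψπ] at hb
      exact (QuotientGroup.eq_one_iff a).mp hb
    refine hA0 (eq_bot_iff.mpr fun b hb => ?_)
    obtain ⟨a, rfl⟩ := QuotientGroup.mk'_surjective L b
    have h2 := Cfsg.Agent.H19.le_pCore (hA.comap ψ) h1 (show π a ∈ A.comap ψ from hb)
    exact mem_bot.mpr ((QuotientGroup.eq_one_iff a).mpr h2)
  -- a Sylow subgroup of the preimage and its normaliser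
  set E0 := A.comap φ with hE0
  haveI : E0.Normal := hA.comap φ
  obtain ⟨Ps⟩ : Nonempty (Sylow s E0) := inferInstance
  set E := (Ps : Subgroup E0).map E0.subtype with hE
  have hEp : IsPGroup s E := Ps.2.map _
  have hEle : E ≤ E0 := map_subtype_le _
  set N1 := normalizer (E : Set G) with hN1
  have hfr : N1 ⊔ E0 = ⊤ := Sylow.normalizer_sup_eq_top Ps
  have hEA : A ≤ E.map φ := by
    intro b hb
    have hAs : IsPGroup s A := hAp
    let f : E0 →* A := (φ.comp E0.subtype).codRestrict A fun a => a.2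
    have hf : Function.Surjective f := fun b => by
      obtain ⟨a, ha⟩ := QuotientGroup.mk'_surjective L (b : G ⧸ L)
      exact ⟨⟨a, show φ a ∈ A from ha.symm ▸ b.2⟩, Subtype.ext ha⟩
    have htop : ((Ps.mapSurjective hf : Sylow s A) : Subgroup A) = ⊤ :=
      ((Ps.mapSurjective hf).3 (hAs.of_equiv topEquiv.symm) le_top).symm
    have hb' : (⟨b, hb⟩ : A) ∈ (Ps : Subgroup E0).map f := by
      rw [← Sylow.coe_mapSurjective hf, htop]; exact mem_top _
    obtain ⟨e, he, hfe⟩ := hb'
    exact ⟨e, mem_map_of_mem _ he, congrArg Subtype.val hfe⟩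
  have hN1s : N1.map φ = ⊤ := by
    have h1 : E0.map φ ≤ N1.map φ := by
      refine le_trans ?_ ((hEA.trans (map_mono (le_normalizer : E ≤ N1))))
      exact map_comap_le φ A
    have h2 := congrArg (Subgroup.map φ) hfr
    rw [Subgroup.map_sup, sup_eq_left.mpr h1,
      map_top_of_surjective φ (QuotientGroup.mk'_surjective L)] at h2
    exact h2
  have hlift : ∀ b : G ⧸ L, ∃ m ∈ N1, φ m = b := fun b => mem_map.mp (hN1s ▸ mem_top b)
  have hEL : ∀ e ∈ E, e ∈ L → e ∈ center G := fun e he heL =>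
    hLc e heL s hsP hsp (spow_mem_pgroup hEp he)
  obtain ⟨v, hvE, hvZ⟩ : ∃ v ∈ E, v ∉ center G := by
    by_contra hcon
    push Not at hcon
    refine hA0 (eq_bot_iff.mpr (hEA.trans (le_of_eq ?_)))
    rw [Subgroup.map_eq_bot_iff, hφ, QuotientGroup.ker_mk']
    exact fun e he => hZL (hcon e he)
  have hvs : SPow s v := spow_mem_pgroup hEp hvE
  have hsπ : InPi p s G := ⟨hsP, hsp, v, hvs, hvZ⟩
  have hvW : W p v := w_of_spow H.prime hsP hsp hvs hvZ
  -- the index of `N1` is a power of `p`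
  have hidx : ∀ {t : ℕ}, t.Prime → t ≠ p → ¬ t ∣ N1.index := by
    intro t ht htp htd
    have hd : N1.index ∣ Nat.card (Cfsg.pCore p (G ⧸ center G)) := by
      have hZN : center G ≤ L ⊓ N1 := le_inf hZL (center_le_normalizer (E : Set G))
      have hsup : N1 ⊔ L = ⊤ := by
        have := congrArg (comap φ) hN1s
        rwa [comap_top, comap_map_eq, hφ, QuotientGroup.ker_mk'] at this
      have h1 : L.relIndex N1 = L.index := by
        rw [← relIndex_sup_right, hsup, relIndex_top_right]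
      have h2 : (L ⊓ N1).index = L.relIndex N1 * N1.index := by
        rw [← relIndex_mul_index (inf_le_right : L ⊓ N1 ≤ N1), inf_relIndex_right]
      have h3 : (L ⊓ N1).index = (L ⊓ N1).relIndex L * L.index :=
        (relIndex_mul_index inf_le_left).symm
      rw [h1, h3, mul_comm L.index, Nat.mul_right_cancel_iff (Nat.pos_of_ne_zero
        FiniteIndex.index_ne_zero)] at h2
      rw [← h2]
      refine Dvd.intro_left _ ((relIndex_mul_relIndex (center G) (L ⊓ N1) L hZN inf_le_left).trans ?_)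
      have hcb : center G = (⊥ : Subgroup (G ⧸ center G)).comap π := by
        rw [MonoidHom.comap_bot, hπ, QuotientGroup.ker_mk']
      calc (center G).relIndex L = ((⊥ : Subgroup (G ⧸ center G)).comap π).relIndex L :=
            congrArg (fun K => K.relIndex L) hcb
        _ = _ := by
          rw [relIndex_comap, hL, map_comap_eq_self_of_surjective (QuotientGroup.mk'_surjective _),
            relIndex_bot_left]
    obtain ⟨k, hk⟩ := IsPGroup.iff_card.mp (Cfsg.Agent.H19.pCore_isPGroup (G := G ⧸ center G) p)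
    exact htp ((Nat.prime_dvd_prime_iff_eq ht H.prime).mp (ht.dvd_of_dvd_pow (hk ▸ htd.trans hd)))
  have hN1full : ∀ {t : ℕ}, t.Prime → t ≠ p →
      (Nat.card N1).factorization t = (Nat.card G).factorization t := by
    intro t ht htp
    have := congrArg (fun n => n.factorization t) N1.card_mul_index
    simp only [Nat.factorization_mul Nat.card_pos.ne' FiniteIndex.index_ne_zero, Finsupp.add_apply,
      Nat.factorization_eq_zero_of_not_dvd (hidx ht htp), add_zero] at this
    exact this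
  -- a relevant prime outside `T`
  obtain ⟨r, hr, hrq⟩ : ∃ r, InPi p r G ∧ r ≠ q := by
    obtain ⟨a, b, ha, hb, hab⟩ := H.two
    by_cases h : a = q
    · exact ⟨b, hb, fun h' => hab (h.trans h'.symm)⟩
    · exact ⟨a, ha, h⟩
  haveI : Fact r.Prime := ⟨hr.1⟩
  have hrT := hnT r hrq
  have hφs : Function.Surjective φ := QuotientGroup.mk'_surjective L
  by_cases hEc : ∀ a ∈ E, ∀ b ∈ E, Commute a b
  · -- abelian case
    set C := centralizer ({v} : Set G) with hC
    have hEC : E ≤ C := fun a ha => mem_cent_iff.mpr (hEc a ha v hvE)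
    have hCN1 : C ≤ N1 := by
      refine le_trans ?_ (Subgroup.centralizer_le_normalizer (E : Set G))
      intro a ha
      refine mem_centralizer_iff.mpr fun e he => ?_
      exact (mem_centralizer_iff.mp (regular_central H hvW (hEC he)
        (spow_coprime hsP H.prime hsp (spow_mem_pgroup hEp he))) a ha).symm
    have hN1C : ∀ m ∈ N1, m ∈ normalizer (C : Set G) := fun m hm =>
      mem_normalizer_of_conj H hvW (mem_cent_iff.mpr (Commute.refl v)) hvW
        (hEC ((mem_normalizer_iff.mp hm v).mp hvE))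
    obtain ⟨R, hRC, hRmem, -⟩ := sylow_in_cent H hvW hr hrT
    have hRn : ∀ m ∈ N1, ∀ a ∈ (R : Subgroup G), m * a * m⁻¹ ∈ (R : Subgroup G) := fun m hm a ha => by
      refine hRmem _ ((mem_normalizer_iff.mp (hN1C m hm) a).mp (hRC ha)) ?_
      obtain ⟨k, hk⟩ := spow_mem_pgroup R.2 ha
      exact ⟨k, (orderOf_conj m a).trans hk⟩
    haveI hRφ : ((R.mapSurjective hφs : Sylow r (G ⧸ L)) : Subgroup (G ⧸ L)).Normal := by
      constructor
      rintro _ ⟨a, ha, rfl⟩ b
      obtain ⟨m, hm, rfl⟩ := hlift b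
      exact ⟨m * a * m⁻¹, hRn m hm a ha, by simp⟩
    obtain ⟨ρ, hρC, hρr, hρW⟩ := exists_spow_in_cent H hvW hr
    have hρR : ρ ∈ (R : Subgroup G) := hRmem ρ hρC hρr
    -- a `q`-element of `N1` outside `C`
    obtain ⟨g, hgN, hgq, hgC⟩ : ∃ g ∈ N1, SPow q g ∧ g ∉ C := by
      by_contra hcon
      push Not at hcon
      obtain ⟨Q⟩ : Nonempty (Sylow q N1) := inferInstance
      have hQC : (Q : Subgroup N1).map N1.subtype ≤ C := fun g hg =>
        hcon g (map_subtype_le _ hg) (spow_mem_pgroup (Q.2.map _) hg)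
      have hd := card_dvd_of_le hQC
      rw [card_subtype, Q.card_eq_multiplicity, hN1full hq.1.1 hq.1.2.1, H.card v hvW,
        hq.1.1.pow_dvd_iff_le_factorization (c_ne_zero H)] at hd
      exact absurd hq.2 (not_lt.mpr hd)
    have hgZ : g ∉ center G := fun h => hgC (mem_cent_iff.mpr (mem_center_iff.mp h v).symm)
    obtain ⟨R', hR'C, -, -⟩ := sylow_in_cent H (w_of_spow H.prime hq.1.1 hq.1.2.1 hgq hgZ) hr hrT
    have hun : (R'.mapSurjective hφs : Sylow r (G ⧸ L)) = R.mapSurjective hφs := by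
      haveI := Sylow.unique_of_normal (R.mapSurjective hφs) hRφ
      exact Subsingleton.elim _ _
    have hρ' : φ ρ ∈ ((R'.mapSurjective hφs : Sylow r (G ⧸ L)) : Subgroup (G ⧸ L)) := by
      rw [hun, Sylow.coe_mapSurjective]; exact mem_map_of_mem φ hρR
    obtain ⟨ρ', hρ'R, hρρ'⟩ := hρ'
    have hz : ρ⁻¹ * (g * ρ * g⁻¹) ∈ center G := by
      refine hLc _ ((QuotientGroup.eq_one_iff _).mp (show φ (ρ⁻¹ * (g * ρ * g⁻¹)) = 1 from ?_))
        r hr.1 hr.2.1 (spow_mem_pgroup R.2 (mul_mem (inv_mem hρR) (hRn g hgN ρ hρR)))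
      have hc : Commute (φ g) (φ ρ) := hρρ' ▸ ((mem_cent_iff.mp (hR'C hρ'R)).symm.map φ)
      simp only [map_mul, map_inv, hc.eq]
      group
    have := commute_of_coprime hz (by group) (spow_coprime' hq.1.1 hr.1 hrq.symm hgq hρr)
    exact hgC ((cent_eq_of_mem H hvW hρC hρW).le (mem_cent_iff.mpr this))
  · -- non-abelian case
    have hsq : s = q := by
      by_contra hsq
      exact hEc fun a ha b hb => comm_of_not_inT H hsπ (hnT s hsq) hEp ha hb
    have hrs : r ≠ s := hsq ▸ hrq
    obtain ⟨R1⟩ : Nonempty (Sylow r N1) := inferInstance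
    set R := (R1 : Subgroup N1).map N1.subtype with hR
    have hRN : R ≤ N1 := map_subtype_le _
    have hRp : IsPGroup r R := R1.2.map _
    have hRcard : Nat.card R = r ^ (Nat.card G).factorization r := by
      rw [hR, card_subtype, R1.card_eq_multiplicity, hN1full hr.1 hr.2.1]
    set RS : Sylow r G := Sylow.ofCard R hRcard
    have hRE : ∀ ρ ∈ R, ∀ e ∈ E, ρ * e * ρ⁻¹ ∈ E := fun ρ hρ e he =>
      (mem_normalizer_iff.mp (hRN hρ) e).mp he
    obtain ⟨ρ0, hρ0, hρ0Z⟩ : ∃ ρ ∈ R, ρ ∉ center G := by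
      obtain ⟨hrP, hrp, u, hur, huZ'⟩ := id hr
      obtain ⟨S, hS⟩ := (isPGroup_zpowers hur).exists_le_sylow
      obtain ⟨m, hm⟩ := MulAction.exists_smul_eq G S RS
      refine ⟨m * u * m⁻¹, ?_, fun h => huZ' ?_⟩
      · show m * u * m⁻¹ ∈ (RS : Subgroup G)
        rw [← hm, Sylow.coe_subgroup_smul]
        exact ⟨u, hS (mem_zpowers u), rfl⟩
      · have h' := (inferInstance : (center G).Normal).conj_mem _ h m⁻¹
        simpa [mul_assoc] using h'
    have hρ0W : W p ρ0 := w_of_spow H.prime hr.1 hr.2.1 (spow_mem_pgroup hRp hρ0) hρ0Z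
    have hcom : ∀ a ∈ E, ∀ b ∈ E, a * b * a⁻¹ * b⁻¹ ∈ center G := by
      intro a ha b hb
      refine hEL _ (mul_mem (mul_mem (mul_mem ha hb) (inv_mem ha)) (inv_mem hb))
        ((QuotientGroup.eq_one_iff _).mp (show φ (a * b * a⁻¹ * b⁻¹) = 1 from ?_))
      have h := congrArg Subtype.val (hAc.is_comm.comm
        (⟨φ a, show φ a ∈ A from hEle ha⟩ : A) ⟨φ b, show φ b ∈ A from hEle hb⟩)
      change φ a * φ b = φ b * φ a at h
      simp only [map_mul, map_inv, h]
      group
    -- the fixed points of `R` in `E` are central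
    have hfix : ∀ c0 ∈ E, (∀ ρ ∈ R, Commute ρ c0) → c0 ∈ center G := by
      intro c0 hc0 hc0R
      by_contra hc0Z
      have hc0W : W p c0 := w_of_spow H.prime hsP hsp (spow_mem_pgroup hEp hc0) hc0Z
      have hcomc : ∀ e ∈ E, Commute c0 e := by
        intro e he
        set z0 := c0 * e * c0⁻¹ * e⁻¹ with hz0
        let X := {a : G // a ∈ E ∧ c0 * a * c0⁻¹ * a⁻¹ = z0}
        have hXmem : ∀ ρ ∈ R, ∀ a : X, ρ * a.1 * ρ⁻¹ ∈ E ∧
            c0 * (ρ * a.1 * ρ⁻¹) * c0⁻¹ * (ρ * a.1 * ρ⁻¹)⁻¹ = z0 := by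
          intro ρ hρ a
          refine ⟨hRE ρ hρ a.1 a.2.1, ?_⟩
          have hcz : c0 = ρ * c0 * ρ⁻¹ := by rw [(hc0R ρ hρ).eq, mul_inv_cancel_right]
          have hzz : ρ * z0 * ρ⁻¹ = z0 := by
            rw [mem_center_iff.mp (hcom c0 hc0 e he) ρ, mul_inv_cancel_right]
          calc c0 * (ρ * a.1 * ρ⁻¹) * c0⁻¹ * (ρ * a.1 * ρ⁻¹)⁻¹
              = (ρ * c0 * ρ⁻¹) * (ρ * a.1 * ρ⁻¹) * (ρ * c0 * ρ⁻¹)⁻¹ * (ρ * a.1 * ρ⁻¹)⁻¹ := by
                rw [← hcz]
            _ = ρ * (c0 * a.1 * c0⁻¹ * a.1⁻¹) * ρ⁻¹ := by group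
            _ = z0 := by rw [a.2.2, hzz]
        letI : MulAction R X :=
          { smul := fun ρ a => ⟨(ρ : G) * a.1 * (ρ : G)⁻¹, hXmem ρ ρ.2 a⟩
            one_smul := fun a => Subtype.ext (by show ((1 : R) : G) * a.1 * ((1 : R) : G)⁻¹ = a.1; simp)
            mul_smul := fun ρ σ a => Subtype.ext (by
              show ((ρ * σ : R) : G) * a.1 * ((ρ * σ : R) : G)⁻¹ =
                (ρ : G) * ((σ : G) * a.1 * (σ : G)⁻¹) * (ρ : G)⁻¹
              rw [Subgroup.coe_mul]; group) }
        have hX : ¬ r ∣ Nat.card X := by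
          have hmem : ∀ a : G, a ∈ E → (c0 * a * c0⁻¹ * a⁻¹ = z0 ↔
              e⁻¹ * a ∈ centralizer ({c0} : Set G)) := by
            intro a ha
            rw [mem_cent_iff, Commute, SemiconjBy]
            have hz0c : ∀ b : G, b * z0 = z0 * b := fun b => mem_center_iff.mp (hcom c0 hc0 e he) b
            have he1 : c0 * e⁻¹ * c0⁻¹ = e⁻¹ * z0⁻¹ := by rw [hz0]; group
            constructor
            · intro h
              have h1 : c0 * (e⁻¹ * a) * c0⁻¹ = e⁻¹ * a := by
                calc c0 * (e⁻¹ * a) * c0⁻¹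
                    = (c0 * e⁻¹ * c0⁻¹) * (c0 * a * c0⁻¹ * a⁻¹) * a := by group
                  _ = e⁻¹ * a := by rw [he1, h]; group
              rw [mul_inv_eq_iff_eq_mul] at h1
              exact h1.symm
            · intro h
              have h1 : c0 * (e⁻¹ * a) * c0⁻¹ = e⁻¹ * a := by rw [← h, mul_inv_cancel_right]
              calc c0 * a * c0⁻¹ * a⁻¹
                  = c0 * e * c0⁻¹ * (c0 * (e⁻¹ * a) * c0⁻¹) * a⁻¹ := by group
                _ = z0 := by rw [h1, hz0]; group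
          let eqv : X ≃ (E ⊓ centralizer ({c0} : Set G) : Subgroup G) :=
            { toFun := fun a => ⟨e⁻¹ * a.1, E.mul_mem (E.inv_mem he) a.2.1, (hmem a.1 a.2.1).mp a.2.2⟩
              invFun := fun b => ⟨e * b.1, E.mul_mem he b.2.1,
                (hmem _ (E.mul_mem he b.2.1)).mpr (by simpa using b.2.2)⟩
              left_inv := fun a => Subtype.ext (by simp)
              right_inv := fun b => Subtype.ext (by simp) }
          rw [Nat.card_congr eqv]
          obtain ⟨k, hk⟩ := IsPGroup.iff_card.mp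
            (hEp.to_le (inf_le_left : E ⊓ centralizer ({c0} : Set G) ≤ E))
          rw [hk]
          exact fun h => hrs ((Nat.prime_dvd_prime_iff_eq hr.1 hsP).mp (hr.1.dvd_of_dvd_pow h))
        obtain ⟨a, ha⟩ := hRp.nonempty_fixed_point_of_prime_not_dvd_card X hX
        have haρ : Commute ρ0 a.1 := by
          have h := congrArg Subtype.val (ha ⟨ρ0, hρ0⟩)
          change ρ0 * a.1 * ρ0⁻¹ = a.1 at h
          rw [mul_inv_eq_iff_eq_mul] at h
          exact h
        have hca : Commute c0 a.1 :=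
          (mem_centralizer_iff.mp (regular_central H hρ0W
            (mem_cent_iff.mpr (hc0R ρ0 hρ0).symm) hc0W.2) a.1 (mem_cent_iff.mpr haρ.symm)).symm
        have hz1 : z0 = 1 := by rw [← a.2.2, hca.eq]; group
        rw [hz0, mul_inv_eq_one, mul_inv_eq_iff_eq_mul] at hz1
        exact hz1
      refine hEc fun a ha b hb => ?_
      exact (mem_centralizer_iff.mp (regular_central H hc0W (mem_cent_iff.mpr (hcomc a ha).symm)
        (spow_coprime hsP H.prime hsp (spow_mem_pgroup hEp ha))) b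
        (mem_cent_iff.mpr (hcomc b hb).symm)).symm
    -- contradiction
    obtain ⟨R', hR'C, -, -⟩ := sylow_in_cent H hvW hr hrT
    obtain ⟨b, hb⟩ := MulAction.exists_smul_eq (G ⧸ L) (RS.mapSurjective hφs) (R'.mapSurjective hφs)
    obtain ⟨m, hm, rfl⟩ := hlift b
    set v1 := m⁻¹ * v * m with hv1
    have hv1E : v1 ∈ E := by
      have := (mem_normalizer_iff.mp (inv_mem hm) v).mp hvE
      simpa [hv1] using this
    refine absurd (hfix v1 hv1E fun ρ hρ => ?_) fun h => hvZ ?_
    · have hρ' : φ (m * ρ * m⁻¹) ∈ ((R'.mapSurjective hφs : Sylow r (G ⧸ L)) : Subgroup (G ⧸ L)) := by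
        rw [← hb, Sylow.coe_subgroup_smul]
        exact ⟨φ ρ, mem_map_of_mem φ hρ, by simp [MulAut.smul_def]⟩
      obtain ⟨ρ', hρ'R, hρρ'⟩ := hρ'
      have hcm : Commute (φ (m * ρ * m⁻¹)) (φ v) := hρρ' ▸ (mem_cent_iff.mp (hR'C hρ'R)).map φ
      have hz : v1⁻¹ * (ρ * v1 * ρ⁻¹) ∈ center G := by
        refine hEL _ (mul_mem (inv_mem hv1E) (hRE ρ hρ v1 hv1E))
          ((QuotientGroup.eq_one_iff _).mp (show φ (v1⁻¹ * (ρ * v1 * ρ⁻¹)) = 1 from ?_))
        rw [show v1⁻¹ * (ρ * v1 * ρ⁻¹) =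
          m⁻¹ * (v⁻¹ * (m * ρ * m⁻¹ * v * (m * ρ * m⁻¹)⁻¹)) * m by rw [hv1]; group,
          map_mul, map_mul, map_mul, map_mul, map_mul, hcm.eq, map_inv, map_inv, map_inv]
        group
      exact commute_of_coprime hz (by group) (spow_coprime' hr.1 hsP hrs (spow_mem_pgroup hRp hρ)
        (spow_mem_pgroup hEp hv1E))
    · have h' := (inferInstance : (center G).Normal).conj_mem _ h m
      simpa [hv1, mul_assoc] using h'

end Cfsg.Agent.H63.TwoReg
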