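import Cfsg.Agent.H63.TwoReg.Basic

/-!
The averaging lemma: in `N(C)/C` an element of prime order `q` normalises no non-trivial
`q'`-subgroup when `q` is relevant and `q` occurs in `N(C)/C`.
-/

set_option autoImplicit false
set_option linter.unusedSectionVars false
set_option linter.style.haveILetI false

namespace Cfsg.Agent.H63.TwoReg

open Subgroup

variable {G : Type*} [Group G] [Finite G] {p c : ℕ}

/-- A `q`-element acting on a non-central `q`-subgroup moves some non-central element by a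
central element. -/
theorem exists_fixed_mod_center {q : ℕ} [Fact q.Prime] {U : Subgroup G} (hU : IsPGroup q U)
    (hUZ : ¬ U ≤ center G) {g : G} (hg : SPow q g) (hgU : g ∈ normalizer (U : Set G)) :
    ∃ x ∈ U, x ∉ center G ∧ ∃ z ∈ center G, g * x * g⁻¹ = x * z := by
  set π := QuotientGroup.mk' (center G)
  set H := U ⊔ zpowers g
  have hH : IsPGroup q H :=
    IsPGroup.to_sup_of_normal_left' hU (isPGroup_zpowers hg) (zpowers_le.mpr hgU)
  set N := (U.map π).subgroupOf (H.map π)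
  have hHn : H.map π ≤ normalizer ((U.map π : Subgroup (G ⧸ center G)) : Set (G ⧸ center G)) := by
    rintro _ ⟨h, hh, rfl⟩
    have hhn : h ∈ normalizer (U : Set G) :=
      (sup_le le_normalizer (zpowers_le.mpr hgU) : H ≤ _) hh
    exact le_normalizer_map π (mem_map_of_mem π hhn)
  haveI : N.Normal := normal_subgroupOf_of_le_normalizer hHn
  have hne : N ≠ ⊥ := by
    rw [Ne, subgroupOf_eq_bot]
    intro hd
    have h1 : U.map π = ⊥ := hd.eq_bot_of_le (map_mono le_sup_left)
    rw [Subgroup.map_eq_bot_iff, QuotientGroup.ker_mk'] at h1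
    exact hUZ h1
  have h2 := Cfsg.Agent.H24.inf_center_ne_bot (hH.map π) hne
  rw [Ne, eq_bot_iff_forall] at h2
  push Not at h2
  obtain ⟨⟨y, hyH⟩, ⟨hyN, hyc⟩, hy1⟩ := h2
  obtain ⟨x, hxU, hxy⟩ : y ∈ U.map π := hyN
  have hcomm : π g * y = y * π g :=
    congrArg Subtype.val (mem_center_iff.mp hyc ⟨π g, mem_map_of_mem π (mem_sup_right (mem_zpowers g))⟩)
  refine ⟨x, hxU, fun hxZ => hy1 (Subtype.ext ?_), x⁻¹ * (g * x * g⁻¹), ?_, by group⟩
  · show y = 1
    rw [← hxy]; exact (QuotientGroup.eq_one_iff x).mpr hxZ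
  · refine (QuotientGroup.eq_one_iff _).mp (show π (x⁻¹ * (g * x * g⁻¹)) = 1 from ?_)
    rw [map_mul, map_inv, map_mul, map_mul, map_inv, hxy, hcomm]
    group

variable (H : Hyp p c G)
include H

/-- A relevant prime that is not full in the centralisers occurs in `N(C)/C`. -/
theorem exists_normalizing {x : G} (hx : W p x) {q : ℕ} (hq : InPi p q G)
    (hlt : c.factorization q < (Nat.card G).factorization q) :
    ∃ g, SPow q g ∧ g ∈ normalizer ((centralizer ({x} : Set G) : Subgroup G) : Set G) ∧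
      g ∉ centralizer ({x} : Set G) ∧ g ^ q ∈ centralizer ({x} : Set G) := by
  haveI : Fact q.Prime := ⟨hq.1⟩
  obtain ⟨U, hUC, hUp, hUcard, hUmem, -⟩ := exists_sylow_cent H hx hq
  obtain ⟨u, huC, huq, huW⟩ := exists_spow_in_cent H hx hq
  have huU : u ∈ U := hUmem u huC huq
  obtain ⟨P, hUP⟩ := hUp.exists_le_sylow
  have hne : U ≠ P := by
    intro he
    have : Nat.card U = Nat.card (P : Subgroup G) := by rw [he]
    rw [hUcard, P.card_eq_multiplicity] at this
    exact hlt.ne (Nat.pow_right_injective hq.1.two_le this)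
  obtain ⟨g, hgP, hgU, hgN⟩ := Cfsg.Agent.H28.exists_mem_normalizer_not_mem P.2 hUP hne
  have hgq : SPow q g := spow_mem_pgroup P.2 hgP
  have hgNC : g ∈ normalizer ((centralizer ({x} : Set G) : Subgroup G) : Set G) :=
    mem_normalizer_of_conj H hx huC huW (hUC ((mem_normalizer_iff.mp hgN u).mp huU))
  have hgC : g ∉ centralizer ({x} : Set G) := fun h => hgU (hUmem g h hgq)
  classical
  obtain ⟨k, hk⟩ := hgq
  have hex : ∃ j, g ^ q ^ j ∈ centralizer ({x} : Set G) :=
    ⟨k, by rw [← hk, pow_orderOf_eq_one]; exact one_mem _⟩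
  set j := Nat.find hex with hj
  have hj0 : j ≠ 0 := fun h0 => hgC (by simpa [← hj, h0] using Nat.find_spec hex)
  refine ⟨g ^ q ^ (j - 1), spow_mem_pgroup P.2 (pow_mem hgP _), pow_mem hgNC _,
    Nat.find_min hex (show j - 1 < j by omega), ?_⟩
  rw [← pow_mul, ← pow_succ, show j - 1 + 1 = j by omega]
  exact Nat.find_spec hex

/-- The averaging lemma. -/
theorem no_invariant {x : G} (hx : W p x) {q : ℕ} (hq : InPi p q G) {g : G} (hgq : SPow q g)
    (C N : Subgroup G) (hC : C = centralizer ({x} : Set G)) (hN : N = normalizer (C : Set G))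
    [(C.subgroupOf N).Normal] (hgN : g ∈ N) (hgC : g ∉ C) (hgqC : g ^ q ∈ C)
    (D : Subgroup (N ⧸ C.subgroupOf N)) (hD : D ≠ ⊥) (hDq : (Nat.card D).Coprime q)
    (hDg : ∀ d ∈ D, ((⟨g, hgN⟩ : N) : N ⧸ C.subgroupOf N) * d *
      ((⟨g, hgN⟩ : N) : N ⧸ C.subgroupOf N)⁻¹ ∈ D) : False := by
  classical
  haveI : Fact q.Prime := ⟨hq.1⟩
  obtain ⟨U, hUC, hUp, -, hUmem, hUcen⟩ := exists_sylow_cent H hx hq
  rw [← hC] at hUC hUmem hUcen
  obtain ⟨u, huC, huq, huW⟩ := exists_spow_in_cent H hx hq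
  rw [← hC] at huC
  have hUN : ∀ n ∈ N, ∀ a ∈ U, n * a * n⁻¹ ∈ U := fun n hn a ha => by
    refine hUmem _ ((mem_normalizer_iff.mp (hN ▸ hn) a).mp (hUC ha)) ?_
    obtain ⟨k, hk⟩ := spow_mem_pgroup hUp ha
    exact ⟨k, by rw [← hk]; exact MulEquiv.orderOf_eq (MulAut.conj n) a⟩
  have hgNU : g ∈ normalizer (U : Set G) := by
    rw [mem_normalizer_iff]
    intro a
    refine ⟨hUN g hgN a, fun ha => ?_⟩
    have := hUN g⁻¹ (inv_mem hgN) _ ha
    simpa [mul_assoc] using this
  obtain ⟨w, hwU, hwZ, z, hz, hgw⟩ :=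
    exists_fixed_mod_center hUp (fun h => huW.1 (h (hUmem u huC huq))) hgq hgNU
  have hwW : W p w := w_of_spow H.prime hq.1 hq.2.1 (spow_mem_pgroup hUp hwU) hwZ
  have hwC : centralizer ({w} : Set G) = C := (cent_eq_of_mem H hx (hC ▸ hUC hwU) hwW).trans hC.symm
  have hzq : z ^ q = 1 := by
    have h1 := conj_pow_central hz hgw q
    have h2 : g ^ q * w * (g ^ q)⁻¹ = w := by
      rw [mul_inv_eq_iff_eq_mul]
      exact mem_cent_iff.mp (by rw [hwC]; exact hgqC)
    rw [h2] at h1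
    exact (mul_eq_left.mp h1.symm)
  have hz1 : z ≠ 1 := by
    rintro rfl
    apply hgC
    rw [← hwC, mem_cent_iff]
    rw [mul_one, mul_inv_eq_iff_eq_mul] at hgw
    exact hgw
  letI : CommGroup U := { (inferInstance : Group U) with
    mul_comm := fun a b => Subtype.ext
      (mem_centralizer_iff.mp (hUcen b b.2) a (hUC a.2)) }
  -- conjugation by an element of `N`, on `U`
  let cU : N → (U →* U) := fun n =>
    { toFun := fun a => ⟨n * a * (n : G)⁻¹, hUN n n.2 a a.2⟩
      map_one' := by ext; simp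
      map_mul' := fun a b => by ext; simp [mul_assoc] }
  -- the conjugates of `w`, indexed by `N/C`
  let φ : N ⧸ C.subgroupOf N → U := Quotient.lift
    (fun n : N => (cU n ⟨w, hwU⟩ : U)) (fun a b hab => by
      rw [← Quotient.eq_iff_equiv] at hab
      have h : ((a : N)⁻¹ * b : N) ∈ C.subgroupOf N := QuotientGroup.eq.mp hab
      rw [mem_subgroupOf, Subgroup.coe_mul, Subgroup.coe_inv, ← hwC, mem_cent_iff] at h
      apply Subtype.ext
      show (a : G) * w * (a : G)⁻¹ = b * w * (b : G)⁻¹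
      calc (a : G) * w * (a : G)⁻¹ = a * (w * ((a : G)⁻¹ * b)) * (b : G)⁻¹ := by group
        _ = a * ((a : G)⁻¹ * b * w) * (b : G)⁻¹ := by rw [h.eq]
        _ = b * w * (b : G)⁻¹ := by group)
  have hφ : ∀ (n : N) (d : N ⧸ C.subgroupOf N), φ ((n : N ⧸ C.subgroupOf N) * d) = cU n (φ d) := by
    intro n d
    induction d using QuotientGroup.induction_on with
    | H m =>
      apply Subtype.ext
      show ((n * m : N) : G) * w * ((n * m : N) : G)⁻¹ = n * (m * w * (m : G)⁻¹) * (n : G)⁻¹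
      rw [Subgroup.coe_mul]; group
  haveI : Fintype D := Fintype.ofFinite D
  set y : U := ∏ d : D, φ d with hy
  obtain ⟨e, he, he1⟩ := D.bot_or_exists_ne_one.resolve_left hD
  obtain ⟨n, rfl⟩ := QuotientGroup.mk_surjective e
  -- `y` is fixed by `n`, hence central
  have hny : cU n y = y := by
    rw [hy, map_prod]
    simp only [← hφ]
    exact Equiv.prod_comp (Equiv.mulLeft (⟨(n : N ⧸ C.subgroupOf N), he⟩ : D)) (fun d : D => φ d)
  have hyZ : (y : G) ∈ center G := by
    by_contra hyZ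
    have hyW : W p (y : G) := w_of_spow H.prime hq.1 hq.2.1 (spow_mem_pgroup hUp y.2) hyZ
    apply he1
    have hyC : centralizer ({(y : G)} : Set G) = C :=
      (cent_eq_of_mem H hx (hC ▸ hUC y.2) hyW).trans hC.symm
    rw [QuotientGroup.eq_one_iff, mem_subgroupOf]
    refine hyC.le ?_
    rw [mem_cent_iff]
    have h := congrArg Subtype.val hny
    change (n : G) * y * (n : G)⁻¹ = y at h
    rw [mul_inv_eq_iff_eq_mul] at h
    exact h
  -- conjugating by `g` multiplies `y` by a power of `z`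
  set γ : N := ⟨g, hgN⟩
  have hzU : z ∈ U := by
    have : z = w⁻¹ * (g * w * g⁻¹) := by rw [hgw]; group
    rw [this]; exact mul_mem (inv_mem hwU) (hUN g hgN w hwU)
  let σ : D ≃ D :=
    { toFun := fun d => ⟨(γ : N ⧸ C.subgroupOf N) * d * (γ : N ⧸ C.subgroupOf N)⁻¹, hDg d d.2⟩
      invFun := Function.invFun fun d : D =>
        (⟨(γ : N ⧸ C.subgroupOf N) * d * (γ : N ⧸ C.subgroupOf N)⁻¹, hDg d d.2⟩ : D)
      left_inv := Function.leftInverse_invFun fun a b h => Subtype.ext (by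
        simpa using congrArg Subtype.val h)
      right_inv := Function.rightInverse_invFun (Finite.surjective_of_injective fun a b h =>
        Subtype.ext (by simpa using congrArg Subtype.val h)) }
  have hkey : ∀ d : D, cU γ (φ d) = φ (σ d) * ⟨z, hzU⟩ := by
    intro d
    obtain ⟨m, hm⟩ := QuotientGroup.mk_surjective (d : N ⧸ C.subgroupOf N)
    apply Subtype.ext
    rw [Subgroup.coe_mul, show ((σ d : D) : N ⧸ C.subgroupOf N) = ((γ * m * γ⁻¹ : N) : N ⧸ C.subgroupOf N) by
      show (γ : N ⧸ C.subgroupOf N) * d * (γ : N ⧸ C.subgroupOf N)⁻¹ = _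
      rw [← hm]; rfl, ← hm]
    show g * ((m : G) * w * (m : G)⁻¹) * g⁻¹ =
      (g * (m : G) * g⁻¹) * w * (g * (m : G) * g⁻¹)⁻¹ * z
    have hzc : ∀ b : G, b * z = z * b := fun b => mem_center_iff.mp hz b
    calc g * ((m : G) * w * (m : G)⁻¹) * g⁻¹
        = g * m * g⁻¹ * (g * w * g⁻¹) * (g * m * g⁻¹)⁻¹ := by group
      _ = g * m * g⁻¹ * w * (z * (g * m * g⁻¹)⁻¹) := by rw [hgw]; group
      _ = g * m * g⁻¹ * w * ((g * m * g⁻¹)⁻¹ * z) := by rw [hzc]
      _ = _ := by group
  have hgy : cU γ y = y * ⟨z, hzU⟩ ^ Fintype.card D := by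
    rw [hy, map_prod, Finset.prod_congr rfl (fun d _ => hkey d), Finset.prod_mul_distrib,
      Finset.prod_const, Finset.card_univ, Equiv.prod_comp σ (fun d : D => φ d)]
  have h1 := congrArg Subtype.val hgy
  rw [Subgroup.coe_mul, SubmonoidClass.coe_pow] at h1
  change g * (y : G) * g⁻¹ = y * z ^ Fintype.card D at h1
  rw [mem_center_iff.mp hyZ g, mul_inv_cancel_right, left_eq_mul] at h1
  have hd := Nat.dvd_gcd (orderOf_dvd_of_pow_eq_one h1) (orderOf_dvd_of_pow_eq_one hzq)
  rw [← Nat.card_eq_fintype_card, hDq.gcd_eq_one, Nat.dvd_one, orderOf_eq_one_iff] at hd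
  exact hz1 hd

end Cfsg.Agent.H63.TwoReg
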