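import Mathlib
import Cfsg.Agent.H24.PGroupBasic
import Cfsg.Agent.H28.BaerSuzuki
import Cfsg.Agent.H89.PrimaryParts

/-!
Groups in which all non-central `p`-regular elements have centralisers of one order.
-/

set_option autoImplicit false
set_option linter.unusedSectionVars false
set_option linter.style.haveILetI false

namespace Cfsg.Agent.H63.TwoReg

open Subgroup

variable {G : Type*} [Group G] [Finite G]

/-- A non-central `p`-regular element. -/
def W (p : ℕ) (x : G) : Prop := x ∉ center G ∧ (orderOf x).Coprime p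

/-- An element of `s`-power order. -/
def SPow (s : ℕ) (x : G) : Prop := ∃ k : ℕ, orderOf x = s ^ k

/-- The relevant primes. -/
def InPi (p s : ℕ) (G : Type*) [Group G] : Prop :=
  s.Prime ∧ s ≠ p ∧ ∃ u : G, SPow s u ∧ u ∉ center G

/-- The hypothesis: the centralisers of elements of `W` all have order `c`, two relevant primes. -/
structure Hyp (p c : ℕ) (G : Type*) [Group G] : Prop where
  prime : p.Prime
  card : ∀ x : G, W p x → Nat.card (centralizer ({x} : Set G)) = c
  two : ∃ q r : ℕ, InPi p q G ∧ InPi p r G ∧ q ≠ r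

variable {p c : ℕ}

theorem mem_cent_iff {x y : G} : y ∈ centralizer ({x} : Set G) ↔ Commute y x := by
  rw [mem_centralizer_singleton_iff]; exact Iff.rfl

theorem spow_coprime {s t : ℕ} (hs : s.Prime) (ht : t.Prime) (hst : s ≠ t) {x : G} (hx : SPow s x) :
    (orderOf x).Coprime t := by
  obtain ⟨k, hk⟩ := hx
  rw [hk]; exact ((Nat.coprime_primes hs ht).mpr hst).pow_left k

theorem spow_coprime' {s t : ℕ} (hs : s.Prime) (ht : t.Prime) (hst : s ≠ t) {x y : G} (hx : SPow s x)
    (hy : SPow t y) : (orderOf x).Coprime (orderOf y) := by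
  obtain ⟨l, hl⟩ := hy
  rw [hl]; exact (spow_coprime hs ht hst hx).pow_right l

theorem spow_of_pow {s : ℕ} (hs : s.Prime) {x : G} {k : ℕ} (h : x ^ s ^ k = 1) : SPow s x := by
  obtain ⟨j, -, hj⟩ := (Nat.dvd_prime_pow hs).mp (orderOf_dvd_of_pow_eq_one h)
  exact ⟨j, hj⟩

theorem w_of_spow {s : ℕ} (hp : p.Prime) (hs : s.Prime) (hsp : s ≠ p) {x : G} (hx : SPow s x)
    (hxZ : x ∉ center G) : W p x :=
  ⟨hxZ, spow_coprime hs hp hsp hx⟩

theorem spow_mem_pgroup {s : ℕ} [Fact s.Prime] {H : Subgroup G} (hH : IsPGroup s H) {x : G}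
    (hx : x ∈ H) : SPow s x := by
  obtain ⟨k, hk⟩ := IsPGroup.iff_orderOf.mp hH ⟨x, hx⟩
  exact ⟨k, by rw [← hk, Subgroup.orderOf_mk]⟩

theorem isPGroup_zpowers {s : ℕ} {x : G} (hx : SPow s x) : IsPGroup s (zpowers x) := by
  obtain ⟨k, hk⟩ := hx
  exact IsPGroup.of_card (n := k) (by rw [Nat.card_zpowers, hk])

/-- A non-central element has a non-central prime-power power. -/
theorem exists_spow_power {x : G} (hx : x ∉ center G) :
    ∃ s : ℕ, ∃ j : ℕ, s.Prime ∧ SPow s (x ^ j) ∧ x ^ j ∉ center G := by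
  obtain ⟨s, hs, h⟩ := Cfsg.Agent.H89.exists_primaryPart_notMem _ hx
  exact ⟨s, _, hs, spow_of_pow hs (Cfsg.Agent.H89.pow_primaryExp_pow s x), h⟩

theorem mem_center_of_primary {x : G} {S : Subgroup G}
    (h : ∀ s j : ℕ, s.Prime → SPow s (x ^ j) → x ^ j ∈ S) : x ∈ S :=
  Cfsg.Agent.H89.mem_of_primaryParts S x fun s hs _ =>
    h s _ hs (spow_of_pow hs (Cfsg.Agent.H89.pow_primaryExp_pow s x))

theorem coprime_pow {x : G} (h : (orderOf x).Coprime p) (j : ℕ) : (orderOf (x ^ j)).Coprime p :=
  Nat.Coprime.coprime_dvd_left (orderOf_pow_dvd j) h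

/-- If `g` moves `x` by a central element then powers of `g` move it by powers. -/
theorem conj_pow_central {g x z : G} (hz : z ∈ center G) (h : g * x * g⁻¹ = x * z) (k : ℕ) :
    g ^ k * x * (g ^ k)⁻¹ = x * z ^ k := by
  induction k with
  | zero => simp
  | succ n ih =>
    have hc : g * z ^ n = z ^ n * g := mem_center_iff.mp (pow_mem hz n) g
    calc g ^ (n + 1) * x * (g ^ (n + 1))⁻¹ = g * (g ^ n * x * (g ^ n)⁻¹) * g⁻¹ := by
            rw [pow_succ']; group
      _ = g * x * z ^ n * g⁻¹ := by rw [ih]; group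
      _ = g * x * (g⁻¹ * g * (z ^ n * g⁻¹)) := by group
      _ = g * x * g⁻¹ * z ^ n := by
            rw [mul_assoc g⁻¹ g, ← mul_assoc g (z ^ n), hc]; group
      _ = x * z ^ (n + 1) := by rw [h, pow_succ']; group

/-- An element moving `x` by a central element of coprime order fixes it. -/
theorem commute_of_coprime {g x z : G} (hz : z ∈ center G) (h : g * x * g⁻¹ = x * z)
    (hcop : (orderOf g).Coprime (orderOf x)) : Commute g x := by
  have hg : z ^ orderOf g = 1 := by
    have := conj_pow_central hz h (orderOf g)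
    rw [pow_orderOf_eq_one] at this
    simpa using this.symm
  have hx : z ^ orderOf x = 1 := by
    have h1 : (g * x * g⁻¹) ^ orderOf x = 1 := by rw [conj_pow, pow_orderOf_eq_one]; group
    rw [h, (show Commute x z from (mem_center_iff.mp hz x)).mul_pow, pow_orderOf_eq_one, one_mul] at h1
    exact h1
  have hz1 : z = 1 := by
    have hd := Nat.dvd_gcd (orderOf_dvd_of_pow_eq_one hg) (orderOf_dvd_of_pow_eq_one hx)
    rw [hcop.gcd_eq_one, Nat.dvd_one, orderOf_eq_one_iff] at hd
    exact hd
  rw [hz1, mul_one, mul_inv_eq_iff_eq_mul] at h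
  exact h

/-- A centraliser is mapped to the centraliser of the conjugate. -/
theorem mem_cent_conj {g x y : G} :
    y ∈ centralizer ({g * x * g⁻¹} : Set G) ↔ g⁻¹ * y * g ∈ centralizer ({x} : Set G) := by
  rw [mem_cent_iff, mem_cent_iff, Commute, SemiconjBy, Commute, SemiconjBy]
  constructor
  · intro h
    calc g⁻¹ * y * g * x = g⁻¹ * (y * (g * x * g⁻¹)) * g := by group
      _ = g⁻¹ * (g * x * g⁻¹ * y) * g := by rw [h]
      _ = x * (g⁻¹ * y * g) := by group
  · intro h
    calc y * (g * x * g⁻¹) = g * (g⁻¹ * y * g * x) * g⁻¹ := by group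
      _ = g * (x * (g⁻¹ * y * g)) * g⁻¹ := by rw [h]
      _ = g * x * g⁻¹ * y := by group

variable (H : Hyp p c G)
include H

/-- Commuting elements of coprime order have the same centraliser. -/
theorem cent_eq_of_commute {x y : G} (hx : W p x) (hy : W p y) (hc : Commute x y)
    (hcop : (orderOf x).Coprime (orderOf y)) :
    centralizer ({x} : Set G) = centralizer ({y} : Set G) := by
  have ho : orderOf (x * y) = orderOf x * orderOf y := hc.orderOf_mul_eq_mul_orderOf_of_coprime hcop
  have h1 : ∀ a b : G, Commute a b → (orderOf a).Coprime (orderOf b) → a ∈ zpowers (a * b) := by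
    intro a b hab hcp
    have h2 : (a * b) ^ orderOf b = a ^ orderOf b := by
      rw [hab.mul_pow, pow_orderOf_eq_one, mul_one]
    have h3 : a ∈ zpowers (a ^ orderOf b) := by
      obtain ⟨m, hm⟩ := exists_pow_eq_self_of_coprime (x := a) hcp.symm
      exact mem_zpowers_iff.mpr ⟨m, by rw [zpow_natCast, hm]⟩
    exact (zpowers_le.mpr (h2 ▸ pow_mem (mem_zpowers (a * b)) _)) h3
  have hxy : x ∈ zpowers (x * y) := h1 x y hc hcop
  have hyx : y ∈ zpowers (x * y) := hc.symm.eq ▸ h1 y x hc.symm hcop.symm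
  have hW : W p (x * y) := by
    refine ⟨fun h => hx.1 ((zpowers_le.mpr h) hxy), ?_⟩
    rw [ho]; exact Nat.Coprime.mul_left hx.2 hy.2
  have hle : ∀ z : G, z ∈ zpowers (x * y) →
      centralizer ({x * y} : Set G) ≤ centralizer ({z} : Set G) := by
    intro z hz a ha
    obtain ⟨i, rfl⟩ := mem_zpowers_iff.mp hz
    rw [mem_cent_iff] at ha ⊢
    exact ha.zpow_right i
  have e1 := eq_of_le_of_card_ge (hle x hxy) (by rw [H.card _ hx, H.card _ hW])
  have e2 := eq_of_le_of_card_ge (hle y hyx) (by rw [H.card _ hy, H.card _ hW])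
  rw [← e1, ← e2]

theorem cent_pow_eq {x : G} (hx : W p x) {j : ℕ} (hj : x ^ j ∉ center G) :
    centralizer ({x ^ j} : Set G) = centralizer ({x} : Set G) := by
  refine (eq_of_le_of_card_ge (fun a ha => ?_) ?_).symm
  · rw [mem_cent_iff] at ha ⊢; exact ha.pow_right j
  · rw [H.card _ hx, H.card _ ⟨hj, coprime_pow hx.2 j⟩]

/-- Every relevant prime occurs non-centrally in every centraliser. -/
theorem exists_spow_in_cent {x : G} (hx : W p x) {s : ℕ} (hs : InPi p s G) :
    ∃ v ∈ centralizer ({x} : Set G), SPow s v ∧ W p v := by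
  obtain ⟨hsP, hsp, u, hu, huZ⟩ := hs
  haveI : Fact s.Prime := ⟨hsP⟩
  by_contra hcon
  push Not at hcon
  set C := centralizer ({x} : Set G)
  obtain ⟨S⟩ : Nonempty (Sylow s C) := inferInstance
  set S' := (S : Subgroup C).map C.subtype with hS'
  have hS'p : IsPGroup s S' := S.2.map _
  have hS'Z : S' ≤ center G := by
    rintro v hv
    by_contra hvZ
    obtain ⟨d, -, rfl⟩ := id hv
    exact hcon d d.2 (spow_mem_pgroup hS'p hv)
      (w_of_spow H.prime hsP hsp (spow_mem_pgroup hS'p hv) hvZ)
  haveI : S'.Normal := ⟨fun a ha g => by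
    rwa [mem_center_iff.mp (hS'Z ha) g, mul_inv_cancel_right]⟩
  have hT : IsPGroup s (S' ⊔ zpowers u : Subgroup G) :=
    IsPGroup.to_sup_of_normal_left hS'p (isPGroup_zpowers hu)
  have hTle : S' ⊔ zpowers u ≤ centralizer ({u} : Set G) := sup_le (fun a ha => by
    rw [mem_cent_iff]; exact (mem_center_iff.mp (hS'Z ha) u).symm)
    (zpowers_le.mpr (by rw [mem_cent_iff]))
  have hd : Nat.card (S' ⊔ zpowers u : Subgroup G) ∣ c := by
    rw [← H.card u (w_of_spow H.prime hsP hsp hu huZ)]; exact card_dvd_of_le hTle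
  have hSc : Nat.card S' = s ^ c.factorization s := by
    rw [hS', card_subtype, S.card_eq_multiplicity, H.card x hx]
  obtain ⟨k, hk⟩ := IsPGroup.iff_card.mp hT
  have hc0 : c ≠ 0 := by rw [← H.card x hx]; exact Nat.card_pos.ne'
  rw [hk, hsP.pow_dvd_iff_le_factorization hc0] at hd
  have hlt : S' < S' ⊔ zpowers u := lt_of_le_of_ne le_sup_left fun he => huZ
    (hS'Z (he ▸ mem_sup_right (mem_zpowers u)))
  have h1 : Nat.card S' < Nat.card (S' ⊔ zpowers u : Subgroup G) := by
    by_contra hge
    exact hlt.ne (eq_of_le_of_card_ge hlt.le (not_lt.mp hge))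
  rw [hk, hSc] at h1
  exact absurd (Nat.pow_le_pow_right hsP.pos hd) (not_le.mpr h1)

/-- The `p`-regular part of a centraliser is central in it. -/
theorem regular_central {x v : G} (hx : W p x) (hv : v ∈ centralizer ({x} : Set G))
    (hvp : (orderOf v).Coprime p) :
    v ∈ centralizer ((centralizer ({x} : Set G) : Subgroup G) : Set G) := by
  refine mem_center_of_primary fun s j hs hsv => ?_
  set y := v ^ j
  have hy : y ∈ centralizer ({x} : Set G) := pow_mem hv j
  by_cases hyZ : y ∈ center G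
  · exact mem_centralizer_iff.mpr fun a _ => mem_center_iff.mp hyZ a
  have hyW : W p y := ⟨hyZ, coprime_pow hvp j⟩
  obtain ⟨q, i, hq, hqx, hxZ⟩ := exists_spow_power hx.1
  set x' := x ^ i
  have hx'W : W p x' := ⟨hxZ, coprime_pow hx.2 i⟩
  have hC : centralizer ({x'} : Set G) = centralizer ({x} : Set G) := cent_pow_eq H hx hxZ
  have key : centralizer ({y} : Set G) = centralizer ({x} : Set G) := by
    by_cases hsq : s = q
    · subst hsq
      obtain ⟨a, b, ha, hb, hab⟩ := H.two
      obtain ⟨r, hr, hrs⟩ : ∃ r, InPi p r G ∧ r ≠ s := by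
        by_cases has : a = s
        · exact ⟨b, hb, fun h => hab (has.trans h.symm)⟩
        · exact ⟨a, ha, has⟩
      obtain ⟨u, hu, hur, huW⟩ := exists_spow_in_cent H hx'W hr
      have hcu : centralizer ({u} : Set G) = centralizer ({x'} : Set G) :=
        cent_eq_of_commute H huW hx'W (mem_cent_iff.mp hu)
          (spow_coprime' hr.1 hs hrs hur hqx)
      have hyu : Commute y u := mem_cent_iff.mp (by rw [hcu, hC]; exact hy)
      rw [cent_eq_of_commute H hyW huW hyu (spow_coprime' hs hr.1 hrs.symm hsv hur), hcu, hC]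
    · have hyx' : Commute y x' := mem_cent_iff.mp (by rw [hC]; exact hy)
      rw [cent_eq_of_commute H hyW hx'W hyx' (spow_coprime' hs hq hsq hsv hqx), hC]
  refine mem_centralizer_iff.mpr fun a ha => ?_
  have ha' : a ∈ centralizer ({y} : Set G) := by rw [key]; exact ha
  exact (mem_cent_iff.mp ha').eq

/-- Elements of `W` in a centraliser have the same centraliser. -/
theorem cent_eq_of_mem {x v : G} (hx : W p x) (hv : v ∈ centralizer ({x} : Set G)) (hvW : W p v) :
    centralizer ({v} : Set G) = centralizer ({x} : Set G) := by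
  refine (eq_of_le_of_card_ge (fun a ha => ?_) ?_).symm
  · rw [mem_cent_iff]
    exact mem_centralizer_iff.mp (regular_central H hx hv hvW.2) a ha
  · rw [H.card _ hx, H.card _ hvW]

/-- An element conjugating some non-central regular element of `C` into `C` normalises `C`. -/
theorem mem_normalizer_of_conj {x u g : G} (hx : W p x) (hu : u ∈ centralizer ({x} : Set G))
    (huW : W p u) (hgu : g * u * g⁻¹ ∈ centralizer ({x} : Set G)) :
    g ∈ normalizer ((centralizer ({x} : Set G) : Subgroup G) : Set G) := by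
  have hgW : W p (g * u * g⁻¹) := by
    refine ⟨fun h => huW.1 ?_, ?_⟩
    · have := mem_center_iff.mp h g
      rw [show g * u * g⁻¹ * g = g * u by group] at this
      rw [← mul_left_cancel this]; exact h
    · have ho : orderOf (g * u * g⁻¹) = orderOf u := by
        rw [show g * u * g⁻¹ = MulAut.conj g u from rfl]
        exact (MulEquiv.orderOf_eq _ _)
      rw [ho]; exact huW.2
  have e1 := cent_eq_of_mem H hx hu huW
  have e2 := cent_eq_of_mem H hx hgu hgW
  rw [mem_normalizer_iff]
  intro a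
  rw [← e1, show (g * a * g⁻¹ ∈ centralizer ({u} : Set G)) ↔
    (g * a * g⁻¹ ∈ centralizer ({g * u * g⁻¹} : Set G)) by rw [e1, e2], mem_cent_conj]
  rw [show g⁻¹ * (g * a * g⁻¹) * g = a by group]

/-- The Sylow `s`-subgroup of a centraliser is central in it and contains all its `s`-elements. -/
theorem exists_sylow_cent {x : G} (hx : W p x) {s : ℕ} (hs : InPi p s G) :
    ∃ U : Subgroup G, U ≤ centralizer ({x} : Set G) ∧ IsPGroup s U ∧
      Nat.card U = s ^ c.factorization s ∧
      (∀ g ∈ centralizer ({x} : Set G), SPow s g → g ∈ U) ∧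
      ∀ u ∈ U, u ∈ centralizer ((centralizer ({x} : Set G) : Subgroup G) : Set G) := by
  obtain ⟨hsP, hsp, -⟩ := hs
  haveI : Fact s.Prime := ⟨hsP⟩
  set C := centralizer ({x} : Set G)
  obtain ⟨S⟩ : Nonempty (Sylow s C) := inferInstance
  have hS'p : IsPGroup s ((S : Subgroup C).map C.subtype) := S.2.map _
  have hcen : ∀ u ∈ (S : Subgroup C).map C.subtype, u ∈ centralizer (C : Set G) := by
    rintro u hu
    obtain ⟨d, -, rfl⟩ := id hu
    exact regular_central H hx d.2 (spow_coprime hsP H.prime hsp (spow_mem_pgroup hS'p hu))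
  refine ⟨(S : Subgroup C).map C.subtype, map_subtype_le _, hS'p, ?_, ?_, hcen⟩
  · rw [card_subtype, S.card_eq_multiplicity, H.card x hx]
  · intro g hg hgs
    haveI : (S : Subgroup C).Normal := ⟨fun a ha b => by
      have hab : b * a = a * b := Subtype.ext
        (mem_centralizer_iff.mp (hcen _ (mem_map_of_mem _ ha)) b b.2)
      rwa [hab, mul_inv_cancel_right]⟩
    have hgp : IsPGroup s (zpowers (⟨g, hg⟩ : C)) := isPGroup_zpowers (by
      obtain ⟨k, hk⟩ := hgs; exact ⟨k, by rw [Subgroup.orderOf_mk, hk]⟩)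
    have hsup := IsPGroup.to_sup_of_normal_left S.2 hgp
    have he := S.3 hsup le_sup_left
    have hmem : (⟨g, hg⟩ : C) ∈ (S : Subgroup C) :=
      le_trans le_sup_right he.le (mem_zpowers _)
    exact ⟨_, hmem, rfl⟩

end Cfsg.Agent.H63.TwoReg
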