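import Cfsg.Agent.H63.TwoReg.Averaging
import Cfsg.Agent.H19.MinimalNormal
import Cfsg.Agent.H19.Cores
import Cfsg.Agent.H87.OddHomogeneous
import Cfsg.Agent.S0205

/-!
At most one relevant prime can fail to be full in the centralisers.
-/

set_option autoImplicit false
set_option linter.unusedSectionVars false
set_option linter.style.haveILetI false

namespace Cfsg.Agent.H63.TwoReg

open Subgroup

variable {G : Type*} [Group G] [Finite G] {p c : ℕ}

/-- A relevant prime that is not full in the centralisers. -/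
def InT (p c q : ℕ) (G : Type*) [Group G] : Prop :=
  InPi p q G ∧ c.factorization q < (Nat.card G).factorization q

variable (H : Hyp p c G)
include H

theorem exists_w : ∃ x : G, W p x := by
  obtain ⟨q, r, ⟨hq, hqp, u, hu, huZ⟩, -, -⟩ := H.two
  exact ⟨u, w_of_spow H.prime hq hqp hu huZ⟩

theorem c_ne_zero : c ≠ 0 := by
  obtain ⟨x, hx⟩ := exists_w H
  rw [← H.card x hx]; exact Nat.card_pos.ne'

theorem c_dvd : c ∣ Nat.card G := by
  obtain ⟨x, hx⟩ := exists_w H
  rw [← H.card x hx]; exact card_subgroup_dvd_card _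

/-- Primes outside `T` other than `p` are full in the centralisers. -/
theorem full_of_not_inT {s : ℕ} (hs : s.Prime) (hsp : s ≠ p) (hT : ¬ InT p c s G) :
    c.factorization s = (Nat.card G).factorization s := by
  refine le_antisymm ((Nat.factorization_le_iff_dvd (c_ne_zero H) Nat.card_pos.ne').mpr (c_dvd H) s) ?_
  by_contra hlt
  rw [not_le] at hlt
  by_cases hπ : InPi p s G
  · exact hT ⟨hπ, hlt⟩
  haveI : Fact s.Prime := ⟨hs⟩
  obtain ⟨S⟩ : Nonempty (Sylow s G) := inferInstance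
  obtain ⟨x, hx⟩ := exists_w H
  have hle : (S : Subgroup G) ≤ centralizer ({x} : Set G) := by
    intro a ha
    by_cases haZ : a ∈ center G
    · rw [mem_cent_iff]; exact (mem_center_iff.mp haZ x).symm
    · exact absurd ⟨hs, hsp, a, spow_mem_pgroup S.2 ha, haZ⟩ hπ
  have hd := card_dvd_of_le hle
  rw [S.card_eq_multiplicity, H.card x hx, hs.pow_dvd_iff_le_factorization (c_ne_zero H)] at hd
  omega

/-- An element of prime order of `N/C` lifts to an element of prime-power order. -/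
theorem exists_lift {q : ℕ} (hq : q.Prime) (C N : Subgroup G) [(C.subgroupOf N).Normal]
    (t : N ⧸ C.subgroupOf N) (ht : orderOf t = q) :
    ∃ g : G, ∃ hg : g ∈ N, SPow q g ∧ g ∉ C ∧ g ^ q ∈ C ∧
      ∃ e : ℕ, ¬ q ∣ e ∧ ((⟨g, hg⟩ : N) : N ⧸ C.subgroupOf N) = t ^ e := by
  obtain ⟨n, rfl⟩ := QuotientGroup.mk_surjective t
  set e := Cfsg.Agent.H89.primaryExp q n with he
  have hne : ¬ q ∣ e := Nat.not_dvd_ordCompl hq (orderOf_pos n).ne'
  have hp1 : ((n ^ e : N) : N ⧸ C.subgroupOf N) ≠ 1 := by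
    rw [QuotientGroup.mk_pow, Ne, ← orderOf_dvd_iff_pow_eq_one, ht]; exact hne
  have hp2 : ((n ^ e : N) : N ⧸ C.subgroupOf N) ^ q = 1 := by
    rw [QuotientGroup.mk_pow, ← pow_mul, mul_comm, pow_mul, ← ht, pow_orderOf_eq_one, one_pow]
  refine ⟨((n ^ e : N) : G), (n ^ e).2, ?_, ?_, ?_, e, hne, ?_⟩
  · refine spow_of_pow hq (k := (orderOf n).factorization q) ?_
    rw [← Subgroup.coe_pow, Cfsg.Agent.H89.pow_primaryExp_pow q n, Subgroup.coe_one]
  · intro h
    exact hp1 ((QuotientGroup.eq_one_iff _).mpr (mem_subgroupOf.mpr h))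
  · rw [← Subgroup.coe_pow, ← mem_subgroupOf, ← QuotientGroup.eq_one_iff, QuotientGroup.mk_pow]
    exact hp2
  · rw [show (⟨((n ^ e : N) : G), (n ^ e).2⟩ : N) = n ^ e from rfl, QuotientGroup.mk_pow]

/-- No normal subgroup of `N/C` of order prime to an element of `T`. -/
theorem no_normal {x : G} (hx : W p x) {q : ℕ} (hq : InT p c q G) (C N : Subgroup G)
    (hC : C = centralizer ({x} : Set G)) (hN : N = normalizer (C : Set G))
    [(C.subgroupOf N).Normal] (D : Subgroup (N ⧸ C.subgroupOf N)) [hDn : D.Normal] (hD : D ≠ ⊥)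
    (hDq : (Nat.card D).Coprime q) : False := by
  obtain ⟨g, hg, hgN, hgC, hgq⟩ := exists_normalizing H hx hq.1 hq.2
  exact no_invariant H hx hq.1 hg C N hC hN (hN ▸ hC ▸ hgN) (hC ▸ hgC) (hC ▸ hgq) D hD hDq
    fun d hd => hDn.conj_mem d hd _

/-- An element of `N(C)` moving two elements of different relevant primes centrally lies in `C`. -/
theorem mem_of_two_moves {x k : G} (hx : W p x)
    (hk : ∀ v ∈ centralizer ({x} : Set G), W p v → (∃ s, InPi p s G ∧ SPow s v) →
      ∃ z ∈ center G, k * v * k⁻¹ = v * z) :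
    k ∈ centralizer ({x} : Set G) := by
  obtain ⟨q, r, hq, hr, hqr⟩ := H.two
  have key : ∀ s, InPi p s G → ∃ a : ℕ, k ^ s ^ a ∈ centralizer ({x} : Set G) := by
    intro s hs
    obtain ⟨v, hvC, hvs, hvW⟩ := exists_spow_in_cent H hx hs
    obtain ⟨z, hz, hkv⟩ := hk v hvC hvW ⟨s, hs, hvs⟩
    obtain ⟨a, ha⟩ := hvs
    have hzo : z ^ orderOf v = 1 := by
      have h1 : (k * v * k⁻¹) ^ orderOf v = 1 := by rw [conj_pow, pow_orderOf_eq_one]; group
      rwa [hkv, (show Commute v z from mem_center_iff.mp hz v).mul_pow, pow_orderOf_eq_one,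
        one_mul] at h1
    refine ⟨a, ?_⟩
    rw [← cent_eq_of_mem H hx hvC hvW, mem_cent_iff]
    have h2 := conj_pow_central hz hkv (orderOf v)
    rw [hzo, mul_one, mul_inv_eq_iff_eq_mul, ha] at h2
    exact h2
  obtain ⟨a, ha⟩ := key q hq
  obtain ⟨b, hb⟩ := key r hr
  have hbez := Nat.gcd_eq_gcd_ab (q ^ a) (r ^ b)
  rw [(((Nat.coprime_primes hq.1 hr.1).mpr hqr).pow a b).gcd_eq_one] at hbez
  have h : k = (k ^ q ^ a) ^ Nat.gcdA (q ^ a) (r ^ b) * (k ^ r ^ b) ^ Nat.gcdB (q ^ a) (r ^ b) := by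
    rw [← zpow_natCast, ← zpow_mul, ← zpow_natCast k (r ^ b), ← zpow_mul, ← zpow_add, ← hbez]
    simp
  rw [h]
  exact mul_mem (zpow_mem ha _) (zpow_mem hb _)

/-- When `p = 2` and some prime is in `T`, the group `N/C` has odd order. -/
theorem odd_quotient_of_p_two {x : G} (hx : W p x) (hp2 : p = 2) {q : ℕ} (hq : InT p c q G)
    (C N : Subgroup G) (hC : C = centralizer ({x} : Set G)) (hN : N = normalizer (C : Set G))
    [(C.subgroupOf N).Normal] : Odd (Nat.card (N ⧸ C.subgroupOf N)) := by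
  rw [← Nat.not_even_iff_odd, even_iff_two_dvd]
  intro h2
  haveI : Fact (Nat.Prime 2) := ⟨Nat.prime_two⟩
  obtain ⟨t, ht⟩ := exists_prime_orderOf_dvd_card' 2 h2
  obtain ⟨n, rfl⟩ := QuotientGroup.mk_surjective t
  have hnC : (n : G) ∉ C := fun h => by
    rw [(QuotientGroup.eq_one_iff n).mpr (mem_subgroupOf.mpr h), orderOf_one] at ht
    omega
  have hn2 : (n : G) * n ∈ C := by
    have := pow_orderOf_eq_one (n : N ⧸ C.subgroupOf N)
    rw [ht, ← QuotientGroup.mk_pow, QuotientGroup.eq_one_iff, mem_subgroupOf] at this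
    simpa [pow_two] using this
  subst hC
  set C := centralizer ({x} : Set G)
  have hNC : ∀ e : N, ∀ v ∈ C, (e : G) * v * (e : G)⁻¹ ∈ C := fun e v hv =>
    (mem_normalizer_iff.mp (hN ▸ e.2 : (e : G) ∈ normalizer (C : Set G)) v).mp hv
  -- `n` inverts everything modulo the centre
  have hinv : ∀ v ∈ C, W p v → (∃ s, InPi p s G ∧ SPow s v) →
      ∃ z ∈ center G, (n : G) * v * (n : G)⁻¹ = v⁻¹ * z := by
    intro v hv hvW hvs
    obtain ⟨s, hs, hvs⟩ := hvs
    obtain ⟨U, hUC, hUp, -, hUmem, hUcen⟩ := exists_sylow_cent H hx hs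
    haveI : Fact s.Prime := ⟨hs.1⟩
    have hv' : (n : G) * v * (n : G)⁻¹ ∈ U := by
      refine hUmem _ (hNC n v hv) ?_
      obtain ⟨k, hk⟩ := hvs
      exact ⟨k, by rw [← hk]; exact MulEquiv.orderOf_eq (MulAut.conj (n : G)) v⟩
    have hcomm : (n : G) * v * (n : G)⁻¹ * v = v * ((n : G) * v * (n : G)⁻¹) :=
      (mem_centralizer_iff.mp (hUcen _ hv') v hv).symm
    set w := (n : G) * v * (n : G)⁻¹ * v with hw
    have hwU : w ∈ U := mul_mem hv' (hUmem v hv hvs)
    refine ⟨w, ?_, ?_⟩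
    · by_contra hwZ
      have hwW : W p w := w_of_spow H.prime hs.1 hs.2.1 (spow_mem_pgroup hUp hwU) hwZ
      apply hnC
      rw [show C = centralizer ({w} : Set G) from (cent_eq_of_mem H hx (hUC hwU) hwW).symm,
        mem_cent_iff]
      have h2' : (n : G) * n * v * ((n : G) * n)⁻¹ = v := by
        rw [mul_inv_eq_iff_eq_mul]
        exact mem_cent_iff.mp ((cent_eq_of_mem H hx hv hvW).symm.le hn2)
      have hfix : (n : G) * w * (n : G)⁻¹ = w := by
        calc (n : G) * w * (n : G)⁻¹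
            = ((n : G) * n * v * ((n : G) * n)⁻¹) * ((n : G) * v * (n : G)⁻¹) := by rw [hw]; group
          _ = v * ((n : G) * v * (n : G)⁻¹) := by rw [h2']
          _ = w := hcomm.symm
      rw [mul_inv_eq_iff_eq_mul] at hfix
      exact hfix
    · have h3 : v⁻¹ * w = v⁻¹ * (v * ((n : G) * v * (n : G)⁻¹)) := by rw [← hcomm]
      rw [h3, inv_mul_cancel_left]
  -- `n` is central modulo `C`
  have hcen : ∀ d : N ⧸ C.subgroupOf N, Commute (n : N ⧸ C.subgroupOf N) d := by
    intro d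
    obtain ⟨e, rfl⟩ := QuotientGroup.mk_surjective d
    have hk : (n : G) * e * (n : G)⁻¹ * (e : G)⁻¹ ∈ C := by
      refine mem_of_two_moves H hx fun v hv hvW hvs => ?_
      obtain ⟨z2, hz2, h2⟩ := hinv v hv hvW hvs
      set v1 := (e : G)⁻¹ * v * e with hv1
      have hv1C : v1 ∈ C := by simpa [hv1] using hNC e⁻¹ v hv
      have hv1o : orderOf v1 = orderOf v := by
        rw [hv1, show (e : G)⁻¹ * v * e = MulAut.conj (e : G)⁻¹ v by simp]
        exact MulEquiv.orderOf_eq _ _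
      have hv1W : W p v1 := by
        refine ⟨fun h => hvW.1 ?_, hv1o ▸ hvW.2⟩
        have h' := (inferInstance : (center G).Normal).conj_mem _ h (e : G)
        simpa [hv1, mul_assoc] using h'
      have hv1s : ∃ s, InPi p s G ∧ SPow s v1 := by
        obtain ⟨s, hs, k, hk⟩ := hvs
        exact ⟨s, hs, k, hv1o.trans hk⟩
      obtain ⟨z1, hz1, h1⟩ := hinv v1 hv1C hv1W hv1s
      have h1' : (n : G)⁻¹ * v1 * n = v1⁻¹ * z1 := by
        rw [← h1]
        have hc : Commute ((n : G) * n) v1 :=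
          mem_cent_iff.mp ((cent_eq_of_mem H hx hv1C hv1W).symm.le hn2)
        calc (n : G)⁻¹ * v1 * n = (n : G)⁻¹ * (v1 * ((n : G) * n)) * (n : G)⁻¹ := by group
          _ = (n : G)⁻¹ * ((n : G) * n * v1) * (n : G)⁻¹ := by rw [hc.eq]
          _ = (n : G) * v1 * (n : G)⁻¹ := by group
      refine ⟨z2⁻¹ * z1, mul_mem (inv_mem hz2) hz1, ?_⟩
      have hz1c : ∀ a : G, a * z1 = z1 * a := fun a => mem_center_iff.mp hz1 a
      have hz2c : ∀ a : G, a * z2⁻¹ = z2⁻¹ * a := fun a => mem_center_iff.mp (inv_mem hz2) a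
      calc (n : G) * e * (n : G)⁻¹ * (e : G)⁻¹ * v * ((n : G) * e * (n : G)⁻¹ * (e : G)⁻¹)⁻¹
          = (n : G) * e * ((n : G)⁻¹ * v1 * n) * (e : G)⁻¹ * (n : G)⁻¹ := by rw [hv1]; group
        _ = (n : G) * e * v1⁻¹ * (z1 * ((e : G)⁻¹ * (n : G)⁻¹)) := by rw [h1']; group
        _ = (n : G) * e * v1⁻¹ * ((e : G)⁻¹ * (n : G)⁻¹ * z1) := by rw [hz1c]
        _ = ((n : G) * v * (n : G)⁻¹)⁻¹ * z1 := by rw [hv1]; group
        _ = z2⁻¹ * v * z1 := by rw [h2]; group
        _ = v * (z2⁻¹ * z1) := by rw [← hz2c v, mul_assoc]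
    have hk' : ((n * e * n⁻¹ * e⁻¹ : N) : N ⧸ C.subgroupOf N) = 1 :=
      (QuotientGroup.eq_one_iff _).mpr (mem_subgroupOf.mpr hk)
    rw [QuotientGroup.mk_mul, QuotientGroup.mk_mul, QuotientGroup.mk_mul, QuotientGroup.mk_inv,
      QuotientGroup.mk_inv, mul_inv_eq_one, mul_inv_eq_iff_eq_mul] at hk'
    exact hk'
  haveI : (zpowers (n : N ⧸ C.subgroupOf N)).Normal := ⟨fun a ha d => by
    obtain ⟨i, rfl⟩ := mem_zpowers_iff.mp ha
    rw [((hcen d).zpow_left i).symm.eq, mul_inv_cancel_right]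
    exact zpow_mem (mem_zpowers _) i⟩
  refine no_normal H hx hq C N rfl hN (zpowers (n : N ⧸ C.subgroupOf N)) ?_ ?_
  · rw [Ne, zpowers_eq_bot]
    intro h; rw [h, orderOf_one] at ht; omega
  · rw [Nat.card_zpowers, ht]
    exact (Nat.coprime_primes Nat.prime_two hq.1.1).mpr (hp2 ▸ hq.1.2.1.symm)

/-- At most one prime is in `T`. -/
theorem inT_unique {q r : ℕ} (hq : InT p c q G) (hr : InT p c r G) : q = r := by
  by_contra hqr
  obtain ⟨x, hx⟩ := exists_w H
  haveI hCn := normal_in_normalizer (H := centralizer ({x} : Set G))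
  set C := centralizer ({x} : Set G) with hC
  set N := normalizer (C : Set G) with hN
  -- choose an element of `T` different from a given prime
  have hpick : ∀ s : ℕ, ∃ t, InT p c t G ∧ t ≠ s := fun s => by
    by_cases hqs : q = s
    · exact ⟨r, hr, fun h => hqr (hqs.trans h.symm)⟩
    · exact ⟨q, hq, hqs⟩
  have hno : ∀ (D : Subgroup (N ⧸ C.subgroupOf N)), D.Normal → D ≠ ⊥ →
      ∀ s : ℕ, s.Prime → IsPGroup s D → False := by
    intro D hDn hD s hs hDs
    haveI : Fact s.Prime := ⟨hs⟩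
    obtain ⟨t, ht, hts⟩ := hpick s
    obtain ⟨k, hk⟩ := IsPGroup.iff_card.mp hDs
    exact no_normal H hx ht C N hC hN D hD
      (hk ▸ ((Nat.coprime_primes hs ht.1.1).mpr hts.symm).pow_left k)
  -- `N/C` is non-trivial
  obtain ⟨g0, -, hg0N, hg0C, -⟩ := exists_normalizing H hx hq.1 hq.2
  haveI : Nontrivial (N ⧸ C.subgroupOf N) := ⟨((⟨g0, hg0N⟩ : N) : N ⧸ C.subgroupOf N), 1,
    fun h => hg0C (mem_subgroupOf.mp ((QuotientGroup.eq_one_iff _).mp h))⟩
  have hnsolv : ¬ Group.IsSolvable (N ⧸ C.subgroupOf N) := by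
    intro hs
    obtain ⟨A, s, hA, -, hA0, -, hsP, hAs, -⟩ := Cfsg.Agent.H19.exists_normal_elementary_le
      (⊤ : Subgroup (N ⧸ C.subgroupOf N)) inferInstance top_ne_bot
    exact hno A hA hA0 s hsP hAs
  have heven : 2 ∣ Nat.card (N ⧸ C.subgroupOf N) := by
    by_contra h
    exact hnsolv (Cfsg.Agent.S0205.result (Nat.odd_iff.mpr (by omega)))
  by_cases hp2 : p = 2
  · exact Nat.not_even_iff_odd.mpr (odd_quotient_of_p_two H hx hp2 hq C N hC hN)
      (even_iff_two_dvd.mpr heven)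
  by_cases h2T : InT p c 2 G
  · haveI : Fact (Nat.Prime 2) := ⟨Nat.prime_two⟩
    have hcore : Cfsg.pCore 2 (N ⧸ C.subgroupOf N) = ⊥ := by
      by_contra h
      exact hno _ (Cfsg.Agent.H19.pCore_normal 2 _) h 2 Nat.prime_two
        (Cfsg.Agent.H19.pCore_isPGroup 2)
    obtain ⟨t, h, s, hs, hs2, hho, hto, hinv⟩ :=
      Cfsg.Agent.H87.exists_inverted_of_two_dvd hcore heven
    obtain ⟨g, hgN, hg, hgC, hgq, e, he, hge⟩ := exists_lift H Nat.prime_two C N t hto
    have hgt : ((⟨g, hgN⟩ : N) : N ⧸ C.subgroupOf N) * h *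
        ((⟨g, hgN⟩ : N) : N ⧸ C.subgroupOf N)⁻¹ ∈ zpowers h := by
      have he1 : t ^ e = t := by
        conv_rhs => rw [← pow_one t]
        rw [pow_inj_mod, hto]; omega
      rw [hge, he1, hinv]; exact inv_mem (mem_zpowers h)
    refine no_invariant H hx h2T.1 hg C N hC hN hgN hgC hgq (zpowers h) ?_ ?_ ?_
    · rw [Ne, zpowers_eq_bot]
      intro h1; rw [h1, orderOf_one] at hho; exact hs.one_lt.ne hho
    · rw [Nat.card_zpowers, hho]; exact (Nat.coprime_primes hs Nat.prime_two).mpr hs2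
    · intro d hd
      obtain ⟨i, rfl⟩ := mem_zpowers_iff.mp hd
      rw [← conj_zpow]; exact zpow_mem hgt i
  · have hfull := full_of_not_inT H Nat.prime_two (fun h => hp2 h.symm) h2T
    have hle : C ≤ N := le_normalizer
    have hcard : Nat.card (N ⧸ C.subgroupOf N) * c = Nat.card N := by
      rw [← H.card x hx, ← Nat.card_congr (subgroupOfEquivOfLe hle).toEquiv,
        ← card_eq_card_quotient_mul_card_subgroup]
    have hd : 2 ^ (c.factorization 2 + 1) ∣ Nat.card G := by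
      refine dvd_trans ?_ (hcard ▸ card_subgroup_dvd_card N)
      rw [pow_succ']
      exact mul_dvd_mul heven (Nat.ordProj_dvd c 2)
    rw [Nat.prime_two.pow_dvd_iff_le_factorization Nat.card_pos.ne', hfull] at hd
    omega

end Cfsg.Agent.H63.TwoReg
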